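import Groth.Agent.Lib.MoveZero26.Local
import Groth.Agent.Lib.FinAffine12.Proj
import Groth.Agent.Lib.ProjSpace.BaseChange
import Groth.Agent.Lib.Cyc26.MVExact
import Groth.Agent.Lib.SmoothReg17.Basic
import Groth.Agent.Lib.Cyc26.RatFun
import Groth.Agent.Lib.Cyc26.Frac
import Groth.Agent.Lib.Cyc26.SplitBase
import Groth.Agent.Lib.Vol26.Stalks
import Groth.Agent.Lib.IntMult26.ExtProdRat

/-! # Moving zero cycles into an open subset -/

set_option autoImplicit false
universe u
set_option linter.style.haveILetI false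
set_option backward.isDefEq.respectTransparency false
set_option backward.isDefEq.respectTransparency.types false

open CategoryTheory AlgebraicGeometry

noncomputable section

namespace Groth.Agent.MoveZero26

open Groth.Agent Groth.Agent.Cyc26
open scoped Classical

theorem ord_uniformizer {A K : Type u} [CommRing A] [IsDomain A] [IsDiscreteValuationRing A] [Field K] [Algebra A K]
    [IsFractionRing A K] {a : A} (ha : a ∈ IsLocalRing.maximalIdeal A) (ha2 : a ∉ IsLocalRing.maximalIdeal A ^ 2) :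
    CycAlg.ordFrac A K (algebraMap A K a) = 1 := by
  obtain ⟨ϖ, hϖ⟩ := IsDiscreteValuationRing.exists_irreducible A
  have hspan : Ideal.span {a} = IsLocalRing.maximalIdeal A := by
    rw [hϖ.maximalIdeal_eq] at ha ha2 ⊢
    obtain ⟨b, rfl⟩ := Ideal.mem_span_singleton'.1 ha
    have hb : IsUnit b := by
      by_contra hb
      apply ha2
      rw [pow_two]
      have : b ∈ Ideal.span {ϖ} := by rw [← hϖ.maximalIdeal_eq]; exact hb
      exact Ideal.mul_mem_mul this (Ideal.mem_span_singleton_self _)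
    exact Ideal.span_singleton_mul_left_unit hb ϖ
  have ha0 : a ≠ 0 := fun h => ha2 (h ▸ zero_mem _)
  rw [(Lattice26.ordFrac_algebraMap (K := K) (Ring.krullDimLE_iff.1 (inferInstance : Ring.KrullDimLE 1 A)) ha0).1, hspan]
  have : Module.length A (A ⧸ IsLocalRing.maximalIdeal A) = 1 := by
    haveI : IsSimpleModule A (A ⧸ IsLocalRing.maximalIdeal A) :=
      isSimpleModule_iff_isCoatom.2 (IsLocalRing.maximalIdeal.isMaximal A).out
    exact Module.length_eq_one _ _
  rw [this]
  rfl

theorem ratFun_single {X : Scheme.{u}} {δ : X → ℤ} {k : ℤ} (y : X) (hy : δ y = k + 1) (f : X.residueField y) (hf : f ≠ 0) :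
    RatFun δ k Set.univ (Cyc.divFun δ y f) :=
  ⟨PUnit, fun _ => y, fun _ => f, fun _ => hy, fun _ => hf, fun _ => trivial,
    fun _ => ⟨Set.univ, isOpen_univ, trivial, Set.toFinite _⟩, fun x => (finsum_eq_single (fun _ : PUnit.{u + 1} => Cyc.divFun δ y f x) PUnit.unit fun i hi => absurd rfl hi).symm⟩

/-- Finite sets of points of a projective scheme over a field lie in affine opens. -/
theorem exists_affine_finite {k : Type u} [Field k] {Y : Scheme.{u}} {h : Y ⟶ Spec (CommRingCat.of k)}
    (hh : RelProj.IsHProjective h) (E : Set Y) (hE : E.Finite) : ∃ U : Y.Opens, IsAffineOpen U ∧ E ⊆ U := by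
  obtain ⟨n, i, hi, -⟩ := hh
  haveI := hi
  exact FinAffine12.exists_affineOpen_of_finite_proj (CohB1.polyGrading n k)
    (i ≫ (ProjSpace.overSpecIso n k).inv) E hE

variable {k : Type u} [Field k] {W : Scheme.{u}} {p : W ⟶ Spec (CommRingCat.of k)} [IsIntegral W] [Smooth p]

/-- A principal divisor with coefficient one at `w` and none at the other points outside `U`. -/
theorem exists_div (hW : RelProj.IsHProjective p) {δ : W → ℤ} (hδ : Cyc.DeltaCompat p δ (fun _ => 0))
    (U : W.Opens) (hU : (U : Set W).Nonempty) (w : W) (hw0 : δ w = 0) (hwU : w ∉ U) :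
    ∃ D : W → ℤ, RatFun δ 0 Set.univ D ∧ D w = 1 ∧ (∀ x, δ x = 0 → x ∉ U → x ≠ w → D x = 0) ∧
      (∀ x, δ x ≠ 0 → D x = 0) := by
  haveI : LocallyOfFiniteType p := inferInstance
  have hWs : Cyc.IsSetup W δ := Cyc26Split.isSetup_of_lft p IntMult26.isSetup_field hδ
  haveI := hWs.1
  have hd := hWs.2.2
  have hnn : ∀ x, 0 ≤ δ x := fun x => by
    have := UCat26.delta_eq_add_rd p hδ x
    omega
  haveI hreg := SmoothReg17.isRegularLocalRing_stalk p w
  haveI : IrreducibleSpace W := inferInstance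
  -- a function vanishing at `w`, invertible generically, supported in `U`
  obtain ⟨V, hV, hwV, -⟩ := exists_isAffineOpen_mem_and_subset (X := W) (x := w) (U := ⊤) trivial
  have hηV : genericPoint W ∈ V := (genericPoint_specializes w).mem_open V.isOpen hwV
  have hηU : genericPoint W ∈ U := by
    obtain ⟨x, hx⟩ := hU
    exact (genericPoint_specializes x).mem_open U.isOpen hx
  obtain ⟨g, hgU, hgη⟩ := hV.exists_basicOpen_le (V := U) ⟨genericPoint W, hηU⟩ hηV
  let g' : W.presheaf.stalk w := W.presheaf.germ V w hwV g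
  have hgw : ¬ IsUnit g' := fun hu => hwU (hgU ((W.mem_basicOpen g w hwV).2 hu))
  have hg0 : g' ≠ 0 := by
    intro h0
    have h1 : W.presheaf.stalkSpecializes (genericPoint_specializes w) g' = 0 := by rw [h0, map_zero]
    rw [TopCat.Presheaf.germ_stalkSpecializes_apply] at h1
    have := (W.mem_basicOpen g _ hηV).1 hgη
    rw [h1] at this
    exact not_isUnit_zero this
  have hn : 1 ≤ (IsLocalRing.maximalIdeal (W.presheaf.stalk w)).spanFinrank := by
    by_contra hlt
    have hb : IsLocalRing.maximalIdeal (W.presheaf.stalk w) = ⊥ :=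
      (Submodule.spanFinrank_eq_zero_iff_eq_bot (IsNoetherian.noetherian _)).1 (by omega)
    have : g' ∈ IsLocalRing.maximalIdeal (W.presheaf.stalk w) := hgw
    rw [hb] at this
    exact hg0 this
  obtain ⟨P, hP, hgP, hmP, hdvr⟩ := exists_curve_prime _ (W.presheaf.stalk w) rfl hn g' hg0
  -- the point of `P`
  let y : W := W.fromSpecStalk w ⟨P, hP⟩
  have hyw : y ⤳ w := by
    have : y ∈ Set.range (W.fromSpecStalk w) := ⟨_, rfl⟩
    rwa [Scheme.range_fromSpecStalk] at this
  have hker : RingHom.ker (Cyc.specMap w y hyw) = P :=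
    congrArg PrimeSpectrum.asIdeal ((W.fromSpecStalk w).isEmbedding.injective (Vol26.fromSpecStalk_ker hyw))
  have hyV : y ∈ V := hyw.mem_open V.isOpen hwV
  have hyU : y ∈ U := by
    refine hgU ((W.mem_basicOpen g y hyV).2 ?_)
    by_contra hu
    apply hgP
    rw [← hker, RingHom.mem_ker]
    show W.residue y (W.presheaf.stalkSpecializes hyw g') = 0
    rw [TopCat.Presheaf.germ_stalkSpecializes_apply]
    exact (IsLocalRing.residue_eq_zero_iff _).2 hu
  have hne : y ≠ w := fun e => hwU (e ▸ hyU)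
  have hy1 : δ y = 1 := by
    have h1 := (hd y w hyw hne).2 fun z hyz hzw => ?_
    · rw [h1, hw0]; rfl
    have hz : z ∈ Set.range (W.fromSpecStalk w) := by rw [Scheme.range_fromSpecStalk]; exact hzw
    obtain ⟨q, rfl⟩ := hz
    have hsp : (⟨P, hP⟩ : PrimeSpectrum (W.presheaf.stalk w)) ⤳ q :=
      (W.fromSpecStalk w).isEmbedding.isInducing.specializes_iff.1 hyz
    have hle : P ≤ q.asIdeal := (PrimeSpectrum.le_iff_specializes _ _).2 hsp
    haveI hq : (q.asIdeal.map (Ideal.Quotient.mk P)).IsPrime :=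
      Ideal.map_isPrime_of_surjective Ideal.Quotient.mk_surjective (by rw [Ideal.mk_ker]; exact hle)
    have hcm : (q.asIdeal.map (Ideal.Quotient.mk P)).comap (Ideal.Quotient.mk P) = q.asIdeal := by
      rw [Ideal.comap_map_of_surjective _ Ideal.Quotient.mk_surjective, ← RingHom.ker_eq_comap_bot, Ideal.mk_ker,
        sup_eq_left.2 hle]
    by_cases hb : q.asIdeal.map (Ideal.Quotient.mk P) = ⊥
    · left
      refine congrArg (W.fromSpecStalk w) (PrimeSpectrum.ext ?_)
      rw [← hcm, hb, ← RingHom.ker_eq_comap_bot, Ideal.mk_ker]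
    · right
      have hmax := hq.isMaximal hb
      haveI := Ideal.comap_isMaximal_of_surjective (Ideal.Quotient.mk P) Ideal.Quotient.mk_surjective (K := q.asIdeal.map (Ideal.Quotient.mk P))
      have e : q = IsLocalRing.closedPoint (W.presheaf.stalk w) :=
        PrimeSpectrum.ext (IsLocalRing.eq_maximalIdeal (hcm ▸ this))
      rw [e, Scheme.fromSpecStalk_closedPoint]
  -- the finitely many bad points
  have hB : {x : W | y ⤳ x ∧ x ∉ U}.Finite := by
    haveI : IsNoetherian W := by
      haveI : IsProper p := by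
        obtain ⟨n, i, hi, he⟩ := hW
        haveI := hi
        rw [← he]
        infer_instance
      haveI : CompactSpace W := QuasiCompact.compactSpace_of_compactSpace p
      exact {}
    let S : TopologicalSpace.Closeds W :=
      ⟨closure {y} ∩ (U : Set W)ᶜ, isClosed_closure.inter U.isOpen.isClosed_compl⟩
    have hsing : ∀ a b : W, a ∈ S → a ⤳ b → b = a := fun a b ha hab => by
      by_contra hne'
      have hya : y ⤳ a := specializes_iff_mem_closure.2 ha.1
      have h1 := (hd a b hab (fun e => hne' e.symm)).1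
      have h2 := (hd y a hya (fun e => ha.2 (e ▸ hyU))).1
      have := hnn b
      omega
    obtain ⟨T, hTf, hTi, hTS⟩ := TopologicalSpace.NoetherianSpace.exists_finite_set_closeds_irreducible S
    refine ((hTf.biUnion (t := fun Z : TopologicalSpace.Closeds W => (Z : Set W)) fun Z hZ => ?_)).subset fun x hx => ?_
    · obtain ⟨a, ha⟩ := QuasiSober.sober (hTi _ hZ) Z.isClosed
      refine (Set.finite_singleton a).subset fun b hb => ?_
      have haS : a ∈ S := by
        rw [hTS]
        exact (le_sSup hZ : Z ≤ sSup T) ha.mem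
      exact hsing a b haS (ha.specializes hb)
    · have hxS : x ∈ S := ⟨specializes_iff_mem_closure.1 hx.1, hx.2⟩
      have hcl : (S : Set W) ⊆ ⋃ Z ∈ T, (Z : Set W) := by
        have : S ≤ ⟨⋃ Z ∈ T, (Z : Set W), hTf.isClosed_biUnion fun Z _ => Z.isClosed⟩ := by
          rw [hTS]
          exact sSup_le fun Z hZ => fun b hb => Set.mem_biUnion hZ hb
        exact this
      exact hcl hxS
  obtain ⟨V', hV', hBV⟩ := exists_affine_finite hW _ (hB.insert w)
  have hwV' : w ∈ V' := hBV (Set.mem_insert _ _)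
  have hyV' : y ∈ V' := hyw.mem_open V'.isOpen hwV'
  letI := W.presheaf.algebra_section_stalk (⟨w, hwV'⟩ : V')
  haveI := hV'.isLocalization_stalk ⟨w, hwV'⟩
  let germ : Γ(W, V') →+* W.presheaf.stalk w := (W.presheaf.germ V' w hwV').hom
  let mI : ∀ x : V', Ideal Γ(W, V') := fun x => (hV'.primeIdealOf x).asIdeal
  have hmI : ∀ (x : V') (a : Γ(W, V')), a ∈ mI x ↔ ¬ IsUnit (W.presheaf.germ V' x.1 x.2 a) := fun x a => by
    rw [← W.mem_basicOpen a x.1 x.2, ← hV'.fromSpec_image_basicOpen]
    constructor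
    · rintro ha ⟨q, hq, e⟩
      have : q = hV'.primeIdealOf x := hV'.fromSpec.isOpenEmbedding.injective (e.trans (hV'.fromSpec_primeIdealOf x).symm)
      exact hq (this ▸ ha)
    · intro h
      by_contra ha
      exact h ⟨_, ha, hV'.fromSpec_primeIdealOf x⟩
  let J : Ideal Γ(W, V') := (P ⊔ IsLocalRing.maximalIdeal (W.presheaf.stalk w) ^ 2).comap germ
  have hJ : ¬ mI ⟨w, hwV'⟩ ≤ J := fun hle => hmP (by
    exact (IsLocalization.AtPrime.map_eq_maximalIdeal (mI ⟨w, hwV'⟩) (W.presheaf.stalk w)).ge.trans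
      (Ideal.map_le_iff_le_comap.2 hle))
  let Bset : Finset V' := ((hB.preimage (f := fun x : V' => x.1) Subtype.val_injective.injOn).toFinset).erase ⟨w, hwV'⟩
  have hav : ¬ ((mI ⟨w, hwV'⟩ : Set Γ(W, V')) ⊆ ⋃ I ∈ insert J (Bset.image mI), (I : Set Γ(W, V'))) := by
    intro hsub
    obtain ⟨I, hI, hle⟩ := (Ideal.subset_union_prime (f := fun I : Ideal Γ(W, V') => I) J J (fun I hI hne' _ => by
      rcases Finset.mem_insert.1 hI with h | h
      · exact absurd h hne'
      · obtain ⟨x, -, rfl⟩ := Finset.mem_image.1 h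
        exact (hV'.primeIdealOf x).2)).1 hsub
    rcases Finset.mem_insert.1 hI with h | h
    · exact hJ (h ▸ hle)
    · obtain ⟨x, hx, rfl⟩ := Finset.mem_image.1 h
      obtain ⟨hxw, hxB⟩ := Finset.mem_erase.1 hx
      obtain ⟨hyx, hxU⟩ : y ⤳ x.1 ∧ x.1 ∉ U := ((hB.preimage Subtype.val_injective.injOn).mem_toFinset.1 hxB)
      have hwx : w ⤳ x.1 := by
        have := (PrimeSpectrum.le_iff_specializes (hV'.primeIdealOf ⟨w, hwV'⟩) (hV'.primeIdealOf x)).1 hle
        have := this.map hV'.fromSpec.continuous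
        rwa [hV'.fromSpec_primeIdealOf, hV'.fromSpec_primeIdealOf] at this
      by_cases e : w = x.1
      · exact hxw (Subtype.ext e.symm)
      · have := (hd w x.1 hwx e).1
        have := hnn x.1
        omega
  obtain ⟨a, haw, hau⟩ := Set.not_subset.1 hav
  have haJ : germ a ∉ P ⊔ IsLocalRing.maximalIdeal (W.presheaf.stalk w) ^ 2 := fun h =>
    hau (Set.mem_iUnion₂.2 ⟨J, Finset.mem_insert_self _ _, h⟩)
  let f : W.residueField y := Cyc.specMap w y hyw (germ a)
  have hf : f ≠ 0 := fun h => haJ (Ideal.mem_sup_left (hker.le (RingHom.mem_ker.2 h)))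
  refine ⟨Cyc.divFun δ y f, ratFun_single y (by rw [hy1]; rfl) f hf, ?_, fun x hx0 hxU hxw => ?_, fun x hx => ?_⟩
  · rw [Cyc.divFun, dif_pos ⟨hyw, by omega⟩]
    haveI : IsDiscreteValuationRing (Cyc.LocQuot w y hyw) :=
      haveI := hdvr
      haveI : IsDomain (W.presheaf.stalk w ⧸ P) := Ideal.Quotient.isDomain P
      IsDiscreteValuationRing.RingEquivClass.isDiscreteValuationRing (Ideal.quotEquivOfEq hker.symm)
    haveI := Cyc26.isFractionRing_locQuot hyw
    haveI : IsLocalHom (Ideal.Quotient.mk (RingHom.ker (Cyc.specMap w y hyw))) :=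
      IsLocalHom.of_surjective _ Ideal.Quotient.mk_surjective
    refine ord_uniformizer (A := Cyc.LocQuot w y hyw) (a := Ideal.Quotient.mk _ (germ a)) ?_ ?_
    · exact fun hu => ((hmI _ a).1 haw) (IsLocalHom.map_nonunit (f := Ideal.Quotient.mk _) _ hu)
    · intro h2
      apply haJ
      rw [RegLoc.maximalIdeal_quotient, ← Ideal.map_pow, ← Ideal.mem_comap,
        Ideal.comap_map_of_surjective _ Ideal.Quotient.mk_surjective, ← RingHom.ker_eq_comap_bot, Ideal.mk_ker, hker,
        sup_comm] at h2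
      exact h2
  · by_cases hyx : y ⤳ x
    swap
    · rw [Cyc.divFun, dif_neg fun h => hyx h.1]
    have hxV : x ∈ V' := hBV (Set.mem_insert_of_mem _ ⟨hyx, hxU⟩)
    have hxu : IsUnit (W.presheaf.germ V' x hxV a) := by
      by_contra hu
      refine hau (Set.mem_iUnion₂.2 ⟨mI ⟨x, hxV⟩, Finset.mem_insert_of_mem (Finset.mem_image_of_mem _
        (Finset.mem_erase.2 ⟨fun e => hxw (congrArg Subtype.val e), ?_⟩)), (hmI ⟨x, hxV⟩ a).2 hu⟩)
      exact (hB.preimage Subtype.val_injective.injOn).mem_toFinset.2 ⟨hyx, hxU⟩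
    rw [Cyc.divFun, dif_pos ⟨hyx, by omega⟩]
    have e : f = Cyc.specMap x y hyx (W.presheaf.germ V' x hxV a) := by
      show W.residue y (W.presheaf.stalkSpecializes hyw (W.presheaf.germ V' w hwV' a)) =
        W.residue y (W.presheaf.stalkSpecializes hyx (W.presheaf.germ V' x hxV a))
      rw [TopCat.Presheaf.germ_stalkSpecializes_apply, TopCat.Presheaf.germ_stalkSpecializes_apply]
    rw [e]
    exact Cyc26.ordAt_eq_zero_of_isUnit hyx hxu
  · rw [Cyc.divFun, dif_neg fun h => hx (by omega)]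

/-- Zero cycles move into any nonempty open subset. -/
theorem exists_move (hW : RelProj.IsHProjective p) {δ : W → ℤ} (hδ : Cyc.DeltaCompat p δ (fun _ => 0))
    (U : W.Opens) (hU : (U : Set W).Nonempty) (z : AlgebraicCycle W ℤ) (hz : z ∈ Cyc.Zk W δ 0) :
    ∃ z' : AlgebraicCycle W ℤ, z' ∈ Cyc.Zk W δ 0 ∧ (∀ w, z' w ≠ 0 → w ∈ U) ∧ Cyc.RatEquiv δ 0 z z' := by
  obtain ⟨n, i, hi, he⟩ := id hW
  haveI := hi
  haveI : IsProper p := by rw [← he]; infer_instance
  haveI : CompactSpace W := QuasiCompact.compactSpace_of_compactSpace p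
  have hWs : Cyc.IsSetup W δ := Cyc26Split.isSetup_of_lft p IntMult26.isSetup_field hδ
  haveI := hWs.1
  have hfin : (Function.support z).Finite := by
    simpa using z.locallyFiniteSupport.finite_inter_support_of_isCompact isCompact_univ
  have key : ∀ S : Finset W, (∀ w ∈ S, δ w = 0 ∧ w ∉ U) → ∃ G : W → ℤ, RatFun δ 0 Set.univ G ∧
      (∀ x, δ x ≠ 0 → G x = 0) ∧ ∀ x, δ x = 0 → x ∉ U → G x = if x ∈ S then z x else 0 := by
    intro S
    induction S using Finset.induction_on with
    | empty => exact fun _ => ⟨fun _ => 0, RatFun.zero fun _ => rfl, fun _ _ => rfl, fun _ _ _ => by simp⟩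
    | insert w S hwS ih =>
      intro hS
      obtain ⟨G, hG, hG0, hGS⟩ := ih fun v hv => hS v (Finset.mem_insert_of_mem hv)
      obtain ⟨h0, hwU⟩ := hS w (Finset.mem_insert_self _ _)
      obtain ⟨D, hD, hDw, hDx, hD0⟩ := exists_div hW hδ U hU w h0 hwU
      refine ⟨fun x => G x + z w * D x, hG.add (hD.smul _), fun x hx => ?_, fun x hx hxU => ?_⟩
      · show G x + z w * D x = 0
        rw [hG0 x hx, hD0 x hx, mul_zero, add_zero]
      · show G x + z w * D x = _
        rw [hGS x hx hxU]
        by_cases e : x = w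
        · subst e
          rw [if_neg hwS, if_pos (Finset.mem_insert_self _ _), hDw, mul_one, zero_add]
        · rw [hDx x hx hxU e, mul_zero, add_zero]
          simp [e]
  obtain ⟨G, hG, hG0, hGS⟩ := key (hfin.toFinset.filter fun w => w ∉ U) fun w hw => by
    obtain ⟨h1, h2⟩ := Finset.mem_filter.1 hw
    exact ⟨by_contra fun hne => hfin.mem_toFinset.1 h1 (hz w hne), h2⟩
  obtain ⟨c, hc⟩ := Cyc26.RatFun.exists_cycle hWs.2.2 hG
  let z' : AlgebraicCycle W ℤ := z - c
  have hz'v : ∀ x, z' x = z x - G x := fun x => by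
    show z x - c x = _
    rw [hc x]
  refine ⟨z', fun x hx => ?_, fun w hw => ?_, ?_⟩
  · rw [hz'v, hz x hx, hG0 x hx, sub_zero]
  · by_contra hwU
    apply hw
    rw [hz'v]
    by_cases h0 : δ w = 0
    · rw [hGS w h0 hwU]
      by_cases hzw : z w = 0
      · rw [hzw]; split_ifs <;> simp
      · rw [if_pos (Finset.mem_filter.2 ⟨hfin.mem_toFinset.2 hzw, hwU⟩), sub_self]
    · rw [hz w h0, hG0 w h0, sub_zero]
  · exact hG.ratEquivZero fun x => by
      show z x - z' x = G x
      rw [hz'v]
      ring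

end Groth.Agent.MoveZero26
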