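import Groth.Agent.Lib.RegLoc.Basic
import Groth.Agent.Lib.RegLoc.Quotient
import Mathlib.RingTheory.Ideal.KrullsHeightTheorem
import Mathlib.RingTheory.DiscreteValuationRing.TFAE

/-! # Smooth curve germs avoiding a hypersurface -/

set_option autoImplicit false
universe u

open IsLocalRing Ideal

namespace Groth.Agent.MoveZero26

theorem isDVR_of_spanFinrank_one (R : Type u) [CommRing R] [IsRegularLocalRing R] [IsDomain R]
    (h : (maximalIdeal R).spanFinrank = 1) : IsDiscreteValuationRing R := by
  have hp : (maximalIdeal R).IsPrincipal :=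
    ((Submodule.spanFinrank_eq_one_iff _).1 h).1
  have hnf : ¬ IsField R := fun hf => by
    rw [isField_iff_maximalIdeal_eq.1 hf, Submodule.spanFinrank_bot] at h
    exact zero_ne_one h
  exact ((IsDiscreteValuationRing.TFAE R hnf).out 4 0).1 hp

theorem exists_curve_prime : ∀ (n : ℕ) (R : Type u) [CommRing R] [IsRegularLocalRing R],
    (maximalIdeal R).spanFinrank = n → 1 ≤ n → ∀ g : R, g ≠ 0 →
      ∃ (P : Ideal R) (_ : P.IsPrime), g ∉ P ∧ ¬ maximalIdeal R ≤ P ⊔ maximalIdeal R ^ 2 ∧
        IsDiscreteValuationRing (R ⧸ P) := by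
  intro n
  induction n with
  | zero => intro R _ _ _ h; omega
  | succ n ih =>
    intro R _ _ hn _ g hg
    haveI := RegLoc.isDomain R
    have hne : ¬ maximalIdeal R ≤ maximalIdeal R ^ 2 := fun hle => by
      have := Submodule.eq_bot_of_le_smul_of_le_jacobson_bot (maximalIdeal R) (maximalIdeal R)
        (IsNoetherian.noetherian _) (by rwa [smul_eq_mul, ← pow_two]) (maximalIdeal_le_jacobson _)
      rw [this, Submodule.spanFinrank_bot] at hn
      omega
    rcases Nat.eq_zero_or_pos n with rfl | hpos
    · haveI := isDVR_of_spanFinrank_one R hn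
      refine ⟨⊥, Ideal.isPrime_bot, by simpa using hg, by rwa [bot_sup_eq], ?_⟩
      exact IsDiscreteValuationRing.RingEquivClass.isDiscreteValuationRing (RingEquiv.quotientBot R).symm
    have hfin : (Ideal.span {g}).minimalPrimes.Finite := (Ideal.span {g}).finite_minimalPrimes_of_isNoetherianRing R
    have hht : (maximalIdeal R).height = ((n + 1 : ℕ) : ℕ∞) := by
      have h1 := IsRegularLocalRing.spanFinrank_maximalIdeal (R := R)
      rw [hn, ← maximalIdeal_height_eq_ringKrullDim] at h1
      exact_mod_cast h1.symm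
    have hav : ¬ ((maximalIdeal R : Set R) ⊆ ⋃ P ∈ (insert (maximalIdeal R ^ 2) hfin.toFinset : Finset (Ideal R)), (P : Set R)) := by
      intro hsub
      obtain ⟨P, hP, hle⟩ := (Ideal.subset_union_prime (f := fun P : Ideal R => P) (maximalIdeal R ^ 2) (maximalIdeal R ^ 2)
        (fun P hP hne' _ => by
          rcases Finset.mem_insert.1 hP with h | h
          · exact absurd h hne'
          · exact (hfin.mem_toFinset.1 h).1.1)).1 hsub
      rcases Finset.mem_insert.1 hP with h | h
      · exact hne (h ▸ hle)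
      · haveI := (hfin.mem_toFinset.1 h).1.1
        have h1 := Ideal.height_le_one_of_isPrincipal_of_mem_minimalPrimes _ P (hfin.mem_toFinset.1 h)
        have h2 := (Ideal.height_mono hle).trans h1
        rw [hht] at h2
        have : n + 1 ≤ 1 := by exact_mod_cast h2
        omega
    obtain ⟨r, hrm, hr⟩ := Set.not_subset.1 hav
    have hr2 : r ∉ maximalIdeal R ^ 2 := fun h => hr (Set.mem_iUnion₂.2 ⟨_, Finset.mem_insert_self _ _, h⟩)
    have hrP : ∀ P ∈ (Ideal.span {g}).minimalPrimes, r ∉ P := fun P hP h =>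
      hr (Set.mem_iUnion₂.2 ⟨_, Finset.mem_insert_of_mem (hfin.mem_toFinset.2 hP), h⟩)
    obtain ⟨hreg, hq⟩ := RegLoc.quotient_span_singleton hrm hr2
    haveI := hreg
    haveI := RegLoc.isDomain (R ⧸ Ideal.span ({r} : Set R))
    haveI hp : (Ideal.span ({r} : Set R)).IsPrime := (Ideal.Quotient.isDomain_iff_prime _).1 inferInstance
    have hg' : Ideal.Quotient.mk (Ideal.span ({r} : Set R)) g ≠ 0 := fun h0 => by
      have hgr := Ideal.Quotient.eq_zero_iff_mem.1 h0
      obtain ⟨P, hP, hPr⟩ := Ideal.exists_minimalPrimes_le ((Ideal.span_singleton_le_iff_mem _).2 hgr)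
      haveI := hP.1.1
      rcases hPr.lt_or_eq with hlt | heq
      · have hPb : ⊥ < P := bot_lt_iff_ne_bot.2 fun e => hg (by
          have := (Ideal.span_singleton_le_iff_mem (I := P)).1 hP.1.2
          simpa [e] using this)
        have h1 : (⊥ : Ideal R).height < P.height := Ideal.height_strict_mono_of_isPrime_of_isPrime hPb
        have h2 : P.height < (Ideal.span ({r} : Set R)).height := Ideal.height_strict_mono_of_isPrime_of_isPrime hlt
        have h3 : (Ideal.span ({r} : Set R)).height ≤ 1 :=
          Ideal.height_le_one_of_isPrincipal_of_mem_minimalPrimes _ _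
            (Ideal.minimalPrimes_eq_subsingleton_self (I := Ideal.span ({r} : Set R)) ▸ Set.mem_singleton _)
        rw [Ideal.height_bot] at h1
        exact absurd (h2.trans_le h3) (not_lt.2 (Order.one_le_iff_pos.2 h1))
      · exact hrP P hP (heq ▸ Ideal.mem_span_singleton_self r)
    obtain ⟨P', hP', hgP', hmP', hdvr⟩ := ih (R ⧸ Ideal.span ({r} : Set R)) (by omega) hpos _ hg'
    haveI := hdvr
    refine ⟨P'.comap (Ideal.Quotient.mk _), Ideal.IsPrime.comap _, hgP', fun hle => hmP' ?_, ?_⟩
    · have := Ideal.map_mono (f := Ideal.Quotient.mk (Ideal.span ({r} : Set R))) hle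
      rw [Ideal.map_sup, Ideal.map_pow, Ideal.map_comap_of_surjective _ Ideal.Quotient.mk_surjective,
        ← RegLoc.maximalIdeal_quotient] at this
      exact this
    · let φ := (Ideal.Quotient.mk P').comp (Ideal.Quotient.mk (Ideal.span ({r} : Set R)))
      have hk : RingHom.ker φ = P'.comap (Ideal.Quotient.mk _) := by
        rw [RingHom.ker_eq_comap_bot, ← Ideal.comap_comap, ← RingHom.ker_eq_comap_bot, Ideal.mk_ker]
      haveI : IsDomain ((R ⧸ Ideal.span ({r} : Set R)) ⧸ P') := Ideal.Quotient.isDomain P'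
      exact IsDiscreteValuationRing.RingEquivClass.isDiscreteValuationRing ((RingHom.quotientKerEquivOfSurjective
        (f := φ) (Ideal.Quotient.mk_surjective.comp Ideal.Quotient.mk_surjective)).symm.trans (Ideal.quotEquivOfEq hk))

end Groth.Agent.MoveZero26
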